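import Groth.Prelude.Def_W4c6detectregular2Detect
import Groth.Agent.S9687
import Mathlib.RingTheory.KrullDimension.Regular
import Mathlib.AlgebraicGeometry.FunctionField

/-!
Relative dimensions of points over a Noetherian base along specializations.
-/

set_option autoImplicit false
set_option linter.style.haveILetI false

universe u

open CategoryTheory AlgebraicGeometry

namespace Groth.Agent.Lib.DetectReg.Dim

open W4c6detectregular2 Groth.Agent.Lib.Cyc

theorem exists_trdeg_eq_nat (k K : Type u) [Field k] [Field K] [Algebra k K]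
    [Algebra.EssFiniteType k K] : ∃ n : ℕ, Algebra.trdeg k K = n := by
  classical
  obtain ⟨s, hs⟩ := IntermediateField.fg_top k K
  haveI : Algebra.IsAlgebraic (Algebra.adjoin k (s : Set K)) K := by
    rw [← IntermediateField.isAlgebraic_adjoin_iff_top]
    refine ⟨fun x => ?_⟩
    have hx : x ∈ IntermediateField.adjoin k (s : Set K) := hs ▸ IntermediateField.mem_top
    exact isAlgebraic_algebraMap (⟨x, hx⟩ : IntermediateField.adjoin k (s : Set K))
  obtain ⟨t, hts, ht⟩ := exists_isTranscendenceBasis_subset (R := k) (s : Set K)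
  haveI : Finite t := (s.finite_toSet.subset hts).to_subtype
  exact ⟨Nat.card t, by rw [← ht.cardinalMk_eq_trdeg, Nat.cast_card]⟩

variable {X S : Scheme.{u}} (p : X ⟶ S)

theorem trdegAt_eq [LocallyOfFiniteType p] (x : X) : Residue.trdegAt p x = (trdegPt p x : Cardinal) := by
  letI := (p.residueFieldMap x).hom.toAlgebra
  haveI : Algebra.EssFiniteType (S.residueField (p x)) (X.residueField x) :=
    Residue.residueFieldMap_essFiniteType x
  obtain ⟨n, hn⟩ := exists_trdeg_eq_nat (S.residueField (p x)) (X.residueField x)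
  have h : trdegPt p x = n := by
    show Cardinal.toNat (Algebra.trdeg (S.residueField (p x)) (X.residueField x)) = n
    rw [hn, Cardinal.toNat_natCast]
  rw [h]
  exact hn

theorem exists_dim_eq (R : Type u) [CommRing R] [IsNoetherianRing R] [IsLocalRing R] :
    ∃ m : ℕ, ringKrullDim R = m := by
  rw [← IsLocalRing.maximalIdeal_height_eq_ringKrullDim]
  obtain ⟨m, hm⟩ := ENat.ne_top_iff_exists.1 (Ideal.height_ne_top (I := IsLocalRing.maximalIdeal R) (Ideal.IsPrime.ne_top inferInstance))
  exact ⟨m, by rw [← hm]; rfl⟩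

/-- Along a specialization in an integral scheme the relative dimension drops at least by the
dimension of the local ring. -/
theorem dimPt_add_le [LocallyOfFiniteType p] [IsLocallyNoetherian S] [IsIntegral X] (y : X) (m : ℕ)
    (hm : (m : WithBot ℕ∞) ≤ ringKrullDim (X.presheaf.stalk y)) :
    dimPt p y + m ≤ dimPt p (genericPoint X) := by
  haveI : IsLocallyNoetherian X := LocallyOfFiniteType.isLocallyNoetherian p
  set ξ := genericPoint X
  have h : ξ ⤳ y := genericPoint_specializes y
  have hineq := S9687.locQuot_ineq p ξ y h (trdegPt p y) (trdegPt p ξ) (trdegAt_eq p y) (trdegAt_eq p ξ).le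
  -- the source
  have hX : ringKrullDim (Cyc.LocQuot y ξ h) = ringKrullDim (X.presheaf.stalk y) := by
    have hker : RingHom.ker (Cyc.specMap y ξ h) = ⊥ := by
      rw [← RingHom.injective_iff_ker_eq_bot]
      intro a b hab
      have : (X.presheaf.stalkSpecializes h) a = (X.presheaf.stalkSpecializes h) b :=
        RingHom.injective (R := X.functionField) (S := X.residueField ξ) (X.residue ξ).hom hab
      exact IsFractionRing.injective (X.presheaf.stalk y) X.functionField this
    exact ringKrullDim_eq_of_ringEquiv ((Ideal.quotEquivOfEq hker).trans (RingEquiv.quotientBot _))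
  -- the base
  have hS : ringKrullDim (Cyc.LocQuot (p y) (p ξ) (h.map p.continuous)) + ringKrullDim (S.presheaf.stalk (p ξ)) ≤
      ringKrullDim (S.presheaf.stalk (p y)) := by
    rw [← InducedDimFun.height_genPrime (p y) (p ξ) (h.map p.continuous), ringKrullDim_quotient,
      add_comm, ringKrullDim]
    haveI := RingHom.ker_isPrime (Cyc.specMap (p y) (p ξ) (h.map p.continuous))
    let q : PrimeSpectrum (S.presheaf.stalk (p y)) := ⟨RingHom.ker (Cyc.specMap (p y) (p ξ) (h.map p.continuous)), inferInstance⟩
    rw [show (RingHom.ker (Cyc.specMap (p y) (p ξ) (h.map p.continuous))).height = Order.height q from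
      PrimeSpectrum.height_eq_orderHeight q]
    have : Order.krullDim (PrimeSpectrum.zeroLocus (R := S.presheaf.stalk (p y)) q.asIdeal) = Order.coheight q := by
      rw [Order.coheight_eq_krullDim_Ici]
      exact Order.krullDim_eq_of_orderIso (OrderIso.setCongr _ _ (Set.ext fun r => Iff.rfl))
    haveI hne : Nonempty (PrimeSpectrum (S.presheaf.stalk (p y))) := ⟨q⟩
    rw [this, ← WithBot.coe_add, Order.krullDim_eq_iSup_height_add_coheight_of_nonempty]
    exact WithBot.coe_le_coe.2 (le_iSup (fun a => Order.height a + Order.coheight a) q)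
  obtain ⟨a, ha⟩ := exists_dim_eq (X.presheaf.stalk y)
  obtain ⟨b, hb⟩ := exists_dim_eq (Cyc.LocQuot (p y) (p ξ) (h.map p.continuous))
  obtain ⟨c, hc⟩ := exists_dim_eq (S.presheaf.stalk (p ξ))
  obtain ⟨e, he⟩ := exists_dim_eq (S.presheaf.stalk (p y))
  rw [hX, ha, hb] at hineq
  rw [hb, hc, he] at hS
  rw [ha] at hm
  have h1 : a + trdegPt p y ≤ b + trdegPt p ξ := by exact_mod_cast hineq
  have h2 : b + c ≤ e := by exact_mod_cast hS
  have h3 : m ≤ a := by exact_mod_cast hm
  have hcc : codimPt S (p ξ) = c := by
    show ENat.toNat (WithBot.unbotD 0 (ringKrullDim (S.presheaf.stalk (p ξ)))) = c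
    rw [hc]; rfl
  have hee : codimPt S (p y) = e := by
    show ENat.toNat (WithBot.unbotD 0 (ringKrullDim (S.presheaf.stalk (p y)))) = e
    rw [he]; rfl
  show (trdegPt p y : ℤ) - (codimPt S (p y) : ℤ) + m ≤ (trdegPt p ξ : ℤ) - (codimPt S (p ξ) : ℤ)
  omega

theorem dimLE_of_genericPoint [LocallyOfFiniteType p] [IsLocallyNoetherian S] [IsIntegral X] (n : ℤ)
    (h : dimPt p (genericPoint X) ≤ n) : DimLE p n := fun y => by
  have := dimPt_add_le p y 0 (by simpa using ringKrullDim_nonneg_of_nontrivial)
  omega

theorem one_le_dim_stalk [IsIntegral X] (y : X) (hy : y ≠ genericPoint X) :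
    ((1 : ℕ) : WithBot ℕ∞) ≤ ringKrullDim (X.presheaf.stalk y) := by
  rw [ringKrullDim_stalk_eq_coheight, Nat.cast_one]
  refine WithBot.one_le_coe.2 (ENat.one_le_iff_ne_zero.2 ?_)
  rw [Order.coheight_ne_zero]
  exact fun hmax => hy (((genericPoint_specializes y).antisymm (hmax (genericPoint_specializes y))).eq.symm)

/-- A bijective residue field extension does not change the relative dimension. -/
theorem dimPt_comp {W : Scheme.{u}} (g : W ⟶ X) (w : W)
    (hg : Function.Bijective (g.residueFieldMap w).hom) : dimPt (g ≫ p) w = dimPt p (g w) := by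
  suffices h : trdegPt (g ≫ p) w = trdegPt p (g w) by
    show (trdegPt (g ≫ p) w : ℤ) - (codimPt S (p (g w)) : ℤ) = _
    rw [h]
    rfl
  letI := (p.residueFieldMap (g w)).hom.toAlgebra
  letI i2 : Algebra (S.residueField (p (g w))) (W.residueField w) := ((g ≫ p).residueFieldMap w).hom.toAlgebra
  let e : X.residueField (g w) ≃ₐ[S.residueField (p (g w))] W.residueField w :=
    { RingEquiv.ofBijective (g.residueFieldMap w).hom hg with
      commutes' := fun a => (ConcreteCategory.congr_hom (Scheme.residueFieldMap_comp g p w) a).symm }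
  show Cardinal.toNat _ = Cardinal.toNat _
  exact congrArg Cardinal.toNat e.trdeg_eq.symm

end Groth.Agent.Lib.DetectReg.Dim
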