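import Groth.Agent.Lib.DetectReg.Dim
import Groth.Agent.Lib.Zeta.Points
import Groth.Agent.Lib.CurveCompl53.Basic
import Groth.Agent.Lib.Ample.RelAmple
import Groth.Agent.Lib.Ample.Pullback
import Groth.Agent.Lib.Regular.UFD
import Groth.Agent.S4415
import Groth.Agent.S9706
import Groth.Agent.S2654
import Groth.Agent.S12460
import Groth.Agent.S0566
import Groth.Agent.S9833
import Groth.Agent.S9802
import Groth.Agent.S9688
import Groth.Agent.S2351
import Groth.Agent.S4418

/-!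
Natural transformations killing the classes of regular quasi-projective schemes vanish.
-/

set_option autoImplicit false
set_option linter.style.haveILetI false

universe u

open CategoryTheory CategoryTheory.Limits AlgebraicGeometry

namespace Groth.Agent.Lib.DetectReg.Main

open W4c6detectregular2 Groth.Agent.Lib

variable {S T : Scheme.{u}}

/-- An object over `T`. -/
abbrev obj {A : Scheme.{u}} (f : A ⟶ T) [LocallyOfFiniteType f] [QuasiCompact f] [IsSeparated f] : SchFT T :=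
  MorphismProperty.Over.mk _ f ⟨‹_›, ‹_›, ‹_›⟩

theorem isNoetherian_of_ft [AlgebraicGeometry.IsNoetherian T] {A : Scheme.{u}} (p : A ⟶ T) [LocallyOfFiniteType p]
    [QuasiCompact p] : AlgebraicGeometry.IsNoetherian A :=
  haveI : IsLocallyNoetherian A := LocallyOfFiniteType.isLocallyNoetherian p
  haveI : CompactSpace A := QuasiCompact.compactSpace_of_compactSpace p
  {}

theorem genericPoint_mem {X : Scheme.{u}} [IsIntegral X] (V : X.Opens) (h : (V : Set X).Nonempty) :
    genericPoint X ∈ V := by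
  obtain ⟨v, hv⟩ := h
  exact (genericPoint_specializes v).mem_open V.2 hv

theorem residue_of_isIso {X' X : Scheme.{u}} [IsIntegral X'] [IsIntegral X] (g : X' ⟶ X) (V : X.Opens)
    (hV : (V : Set X).Nonempty) [IsIso (g ∣_ V)] :
    g (genericPoint X') = genericPoint X ∧ Function.Bijective (g.residueFieldMap (genericPoint X')).hom := by
  obtain ⟨w, hw⟩ := (Scheme.homeoOfIso (asIso (g ∣_ V))).surjective ⟨genericPoint X, genericPoint_mem V hV⟩
  have hgw : g ((g ⁻¹ᵁ V).ι w) = genericPoint X := by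
    rw [← Scheme.Hom.comp_apply, ← morphismRestrict_ι, Scheme.Hom.comp_apply]
    exact congrArg Subtype.val hw
  have hmem : genericPoint X' ∈ g ⁻¹ᵁ V := genericPoint_mem _ ⟨_, w.2⟩
  refine ⟨((((genericPoint_specializes ((g ⁻¹ᵁ V).ι w)).map g.continuous).trans
    (specializes_of_eq hgw)).antisymm (genericPoint_specializes _)).eq,
    (g.residueFieldMap (genericPoint X')).hom.injective, fun z => ?_⟩
  have : IsIso (g.stalkMap (genericPoint X')) :=
    ((MorphismProperty.isomorphisms CommRingCat).arrow_mk_iso_iff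
      (morphismRestrictStalkMap g V ⟨_, hmem⟩)).1
      (show IsIso ((g ∣_ V).stalkMap ⟨_, hmem⟩) from inferInstance)
  obtain ⟨z', rfl⟩ := X'.residue_surjective (genericPoint X') z
  obtain ⟨y, rfl⟩ := (ConcreteCategory.bijective_of_isIso (g.stalkMap (genericPoint X'))).2 z'
  exact ⟨X.residue _ y, ConcreteCategory.congr_hom (Scheme.residue_residueFieldMap g _) y⟩

theorem quasiCompact_ι {A : Scheme.{u}} [AlgebraicGeometry.IsNoetherian A] (V : A.Opens) : QuasiCompact V.ι :=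
  haveI : TopologicalSpace.NoetherianSpace (V : Scheme.{u}) := V.ι.isOpenEmbedding.isInducing.noetherianSpace
  quasiCompact_of_noetherianSpace_source V.ι

/-- The reduced closed complement of an open. -/
noncomputable def cj {A : Scheme.{u}} (V : A.Opens) :=
  (Scheme.IdealSheafData.vanishingIdeal ⟨(V : Set A)ᶜ, V.2.isClosed_compl⟩).subschemeι

instance {A : Scheme.{u}} (V : A.Opens) : IsClosedImmersion (cj V) := by
  unfold cj; infer_instance

theorem range_cj {A : Scheme.{u}} (V : A.Opens) : Set.range (cj V).base = (Set.range V.ι.base)ᶜ := by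
  rw [Scheme.Opens.range_ι, cj, Scheme.IdealSheafData.range_subschemeι,
    Scheme.IdealSheafData.coe_support_vanishingIdeal]
  rfl

theorem cj_not_mem {A : Scheme.{u}} (V : A.Opens) (z) : cj V z ∉ V := fun h =>
  (range_cj V).le ⟨z, rfl⟩ ((Scheme.Opens.range_ι V).ge h)

theorem dimPt_cj {A : Scheme.{u}} (q : A ⟶ S) (V : A.Opens) (z) :
    dimPt (cj V ≫ q) z = dimPt q (cj V z) :=
  Dim.dimPt_comp q (cj V) z (Zeta.Points.bijective_residueFieldMap _ z)

variable (t : T ⟶ S) [AlgebraicGeometry.IsNoetherian S] [AlgebraicGeometry.IsNoetherian T] [LocallyOfFiniteType t]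
  {G H : ResFun T} (one : ∀ X : SchFT T, G.F.obj X) (φ : G.F ⟶ H.F)

/-- Integral schemes of dimension at most `n` are killed. -/
def Kills (n : ℤ) : Prop :=
  ∀ Y : SchFT T, IsIntegral Y.left → DimLE (Y.hom ≫ t) n → (φ.app Y).hom (one Y) = 0

theorem natural {Y X : SchFT T} (f : Y ⟶ X) (a : G.F.obj Y) :
    (φ.app X).hom ((G.F.map f).hom a) = (H.F.map f).hom ((φ.app Y).hom a) :=
  ConcreteCategory.congr_hom (φ.naturality f) a

theorem eq_zero_of_gen (n : ℤ) (hn : Kills t one φ n) (X : SchFT T) (s : Set (G.F.obj X))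
    (hs : AddSubgroup.closure s = ⊤)
    (h : ∀ a ∈ s, ∃ (Y : SchFT T) (f : Y ⟶ X), IsIntegral Y.left ∧ DimLE (Y.hom ≫ t) n ∧
      a = (G.F.map f).hom (one Y)) (a : G.F.obj X) : (φ.app X).hom a = 0 := by
  have hle : AddSubgroup.closure s ≤ (φ.app X).hom.ker := by
    refine (AddSubgroup.closure_le _).2 fun b hb => ?_
    obtain ⟨Y, f, hY, hd, rfl⟩ := h b hb
    show (φ.app X).hom ((G.F.map f).hom (one Y)) = 0
    rw [natural, hn Y hY hd, map_zero]
  exact hle (hs ▸ AddSubgroup.mem_top a)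

variable (hG2 : G.F2) (hH2 : H.F2) (hG3 : G.F3) (hG4a : G.F4a one) (hG4b : G.F4b one) (hG5 : G.F5 t one)
  (d : ℤ) (hii : H.VanLE t d) (hiv : G.ResCompat H φ) (hv : G.KillsRegular H t one φ)

include hG2 hG3 hG4a hG4b hG5 in
/-- Descent along a proper birational morphism. -/
theorem descend {A' A : Scheme.{u}} (g : A' ⟶ A) [IsProper g] (p : A ⟶ T) [LocallyOfFiniteType p]
    [QuasiCompact p] [IsSeparated p] [IsIntegral A'] [IsIntegral A] (V : A.Opens)
    (hV : (V : Set A).Nonempty) [IsIso (g ∣_ V)] (n : ℤ) (hn : DimLE (p ≫ t) n)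
    (hk : Kills t one φ (n - 1)) (h' : (φ.app (obj (g ≫ p))).hom (one _) = 0) :
    (φ.app (obj p)).hom (one (obj p)) = 0 := by
  haveI := isNoetherian_of_ft p
  haveI := isNoetherian_of_ft (g ≫ p)
  haveI : QuasiCompact V.ι := quasiCompact_ι V
  haveI : QuasiCompact (g ⁻¹ᵁ V).ι := quasiCompact_ι _
  have hVo : IsOpenImmersion V.ι := inferInstance
  have hVo' : IsOpenImmersion (g ⁻¹ᵁ V).ι := inferInstance
  haveI : Nonempty (V : Scheme.{u}) := hV.to_subtype
  haveI : IsIntegral (V : Scheme.{u}) := isIntegral_of_isOpenImmersion V.ι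
  let U : SchFT T := obj (V.ι ≫ p)
  let U' : SchFT T := obj ((g ⁻¹ᵁ V).ι ≫ g ≫ p)
  let g' : obj (g ≫ p) ⟶ obj p := MorphismProperty.Over.homMk g rfl ‹IsProper g›
  let gV : U' ⟶ U := MorphismProperty.Over.homMk (g ∣_ V) (by
    show g ∣_ V ≫ V.ι ≫ p = (g ⁻¹ᵁ V).ι ≫ g ≫ p
    rw [← Category.assoc, morphismRestrict_ι, Category.assoc])
    (show IsProper (g ∣_ V) from inferInstance)
  have hres : (G.res (U := U) (X := obj p) V.ι hVo rfl).hom
      ((G.F.map g').hom (one _) - one _) = 0 := by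
    rw [map_sub]
    have h3 := ConcreteCategory.congr_hom (hG3 (U := U) (V := U') (X := obj p) (Y := obj (g ≫ p)) V.ι hVo rfl (g ⁻¹ᵁ V).ι
      hVo' rfl g' gV (isPullback_morphismRestrict g V).flip) (one (obj (g ≫ p)))
    change (G.res (U := U) (X := obj p) V.ι _ _).hom ((G.F.map g').hom (one _)) = _ at h3
    rw [h3]
    show (G.F.map gV).hom ((G.res (U := U') (X := obj (g ≫ p)) (g ⁻¹ᵁ V).ι _ _).hom (one _)) - _ = 0
    rw [hG4a (U := U') (X := obj (g ≫ p)) (g ⁻¹ᵁ V).ι hVo' rfl (Or.inl ‹IsIntegral A'›),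
      hG4a (U := U) (X := obj p) V.ι hVo rfl (Or.inl ‹IsIntegral A›),
      hG4b gV (show IsIso (g ∣_ V) from inferInstance) (Or.inl ‹IsIntegral (V : Scheme.{u})›), sub_self]
  let Z : SchFT T := obj (cj V ≫ p)
  let i : Z ⟶ obj p := MorphismProperty.Over.homMk (cj V) rfl (show IsProper (cj V) from inferInstance)
  obtain ⟨b, hb⟩ := hG2 (Z := Z) (X := obj p) (U := U) i V.ι hVo rfl (show IsClosedImmersion (cj V) from inferInstance)
    (range_cj V) hres
  have hZ : DimLE (Z.hom ≫ t) (n - 1) := fun z => by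
    show dimPt ((cj V ≫ p) ≫ t) z ≤ n - 1
    rw [Category.assoc, dimPt_cj (p ≫ t) V z]
    have h1 := Dim.dimPt_add_le (p ≫ t) (cj V z) 1
      (Dim.one_le_dim_stalk _ fun h => cj_not_mem V z (h ▸ genericPoint_mem V hV))
    have h2 := hn (genericPoint A)
    omega
  have hb0 : (φ.app Z).hom b = 0 := eq_zero_of_gen t one φ (n - 1) hk Z _ (hG5 Z)
    (fun a ⟨W, f, hW, hd, ha⟩ => ⟨W, f, hW, hd _ hZ, ha⟩) b
  have h0 := congrArg (φ.app (obj p)).hom hb
  rw [natural, hb0, map_zero, map_sub, natural, h', map_zero, zero_sub] at h0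
  exact neg_eq_zero.1 h0.symm

include hG2 hH2 hG3 hG4a hG4b hG5 hii hiv hv in
/-- The inductive step. -/
theorem step_aux (hqe : ∀ U : S.affineOpens, EGA4.IsQuasiExcellent Γ(S, U)) [S.IsSeparated] [T.IsSeparated]
    (n : ℤ) (hn : n ≤ d) (hk : Kills t one φ (n - 1)) {A : Scheme.{u}} (p : A ⟶ T) [LocallyOfFiniteType p]
    [QuasiCompact p] [IsSeparated p] [IsIntegral A] (hd : DimLE (p ≫ t) n) :
    (φ.app (obj p)).hom (one (obj p)) = 0 := by
  haveI := isNoetherian_of_ft p
  haveI : IsSeparated t := IsSeparated.of_comp t (CategoryTheory.Limits.terminal.from S)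
  haveI : QuasiCompact t := quasiCompact_of_noetherianSpace_source t
  obtain ⟨Y1, f1, hq1, hp1, -, ⟨O1, hO1d, hO1⟩, -, -, hint⟩ := S4415.result (p ≫ t) (Or.inl inferInstance)
  haveI : IsIntegral Y1 := hint ‹_›
  haveI : IsProper f1 := (S4418.result f1 hp1).2
  haveI := hO1
  have hO1ne : (O1 : Set A).Nonempty := by
    obtain ⟨y, hy⟩ := hO1d.nonempty
    exact ⟨f1 y, hy⟩
  -- dimensions
  have hd1 : DimLE ((f1 ≫ p) ≫ t) n := by
    refine Dim.dimLE_of_genericPoint _ _ ?_
    obtain ⟨h1, h2⟩ := residue_of_isIso f1 O1 hO1ne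
    rw [Category.assoc, Dim.dimPt_comp (p ≫ t) f1 _ h2]
    exact hd _
  refine descend t one φ hG2 hG3 hG4a hG4b hG5 f1 p O1 hO1ne n hd hk ?_
  -- regular locus and normalization
  haveI := isNoetherian_of_ft (f1 ≫ p)
  have hreg : ∀ (W : Scheme.{u}) (g : W ⟶ S), LocallyOfFiniteType g →
      IsOpen {y : W | IsRegularLocalRing (W.presheaf.stalk y)} :=
    (S12460.result S).1.2 fun U => (hqe U).2.2
  let r1 := f1 ≫ p ≫ t
  let R1 : Y1.Opens := ⟨_, hreg Y1 r1 inferInstance⟩
  have hR1 : genericPoint Y1 ∈ R1 := by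
    show IsRegularLocalRing Y1.functionField
    infer_instance
  have hnag : ∀ U : Y1.Opens, IsAffineOpen U → CAlg.IsNagata Γ(Y1, U) := by
    intro U hU
    let I := {p : Y1.affineOpens × S.affineOpens // (p.1.1 : Y1.Opens) ≤ r1 ⁻¹ᵁ p.2.1}
    refine S9833.result Y1 (fun p : I => p.1.1.1) ?_ (fun p => p.1.1.2) (fun p => ?_) U hU
    · rw [eq_top_iff]
      intro y _
      obtain ⟨_, ⟨W, hW, rfl⟩, hyW, -⟩ := S.isBasis_affineOpens.exists_subset_of_mem_open
        (Set.mem_univ (r1 y)) isOpen_univ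
      obtain ⟨_, ⟨V, hV, rfl⟩, hyV, hVW⟩ := Y1.isBasis_affineOpens.exists_subset_of_mem_open
        (show y ∈ (r1 ⁻¹ᵁ W : Y1.Opens) from hyW) (r1 ⁻¹ᵁ W).2
      exact TopologicalSpace.Opens.mem_iSup.2 ⟨⟨(⟨V, hV⟩, ⟨W, hW⟩), hVW⟩, hyV⟩
    · letI := (r1.appLE p.1.2.1 p.1.1.1 p.2).hom.toAlgebra
      haveI : Algebra.FiniteType Γ(S, p.1.2.1) Γ(Y1, p.1.1.1) :=
        HasRingHomProperty.appLE @LocallyOfFiniteType r1 inferInstance p.1.2 p.1.1 p.2
      exact S0566.result _ (S2654.result _ (hqe p.1.2)) _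
  haveI : QuasiCompact (Y1.fromSpecStalk (genericPoint Y1)) :=
    quasiCompact_of_noetherianSpace_source _
  haveI : QuasiSeparated (Y1.fromSpecStalk (genericPoint Y1)) := inferInstance
  haveI : IsFinite (Curv2.normalizationι Y1) := S9688.result Y1 fun U hU hne =>
    @(S9802.result Y1).1 hnag Y1 (𝟙 Y1) inferInstance inferInstance U hne hU
  obtain ⟨hNi, hNn, -, -, -⟩ := S2351.result Y1
  haveI : IsIntegral (Curv2.normalization Y1) := hNi
  let ν := Curv2.normalizationι Y1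
  haveI : IsIso (ν ∣_ R1) := CurveCompl53.Basic.isIso_normalizationι_restrict Y1 R1 fun y hy => by
    haveI : IsRegularLocalRing (Y1.presheaf.stalk y) := hy
    exact Regular.UFD.isIntegrallyClosed _
  refine descend t one φ hG2 hG3 hG4a hG4b hG5 ν (f1 ≫ p) R1 ⟨_, hR1⟩ n hd1 hk ?_
  -- the regular part of the normalization
  haveI := isNoetherian_of_ft (ν ≫ f1 ≫ p)
  let R2 : (Curv2.normalization Y1).Opens := ⟨_, hreg _ (ν ≫ r1) inferInstance⟩
  have hR2 : genericPoint (Curv2.normalization Y1) ∈ R2 := by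
    show IsRegularLocalRing (Curv2.normalization Y1).functionField
    infer_instance
  haveI : QuasiCompact R2.ι := quasiCompact_ι R2
  have hRo : IsOpenImmersion R2.ι := inferInstance
  haveI : IsClosedImmersion (cj R2) := inferInstance
  haveI : IsImmersion (cj R2) := inferInstance
  have hd2 : DimLE ((ν ≫ f1 ≫ p) ≫ t) n := by
    refine Dim.dimLE_of_genericPoint _ _ ?_
    obtain ⟨h1, h2⟩ := residue_of_isIso ν R1 ⟨_, hR1⟩
    rw [Category.assoc, Dim.dimPt_comp ((f1 ≫ p) ≫ t) ν _ h2]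
    exact hd1 _
  let Z : SchFT T := obj (cj R2 ≫ ν ≫ f1 ≫ p)
  let i : Z ⟶ obj (ν ≫ f1 ≫ p) :=
    MorphismProperty.Over.homMk (cj R2) rfl (show IsProper (cj R2) from inferInstance)
  let U : SchFT T := obj (R2.ι ≫ ν ≫ f1 ≫ p)
  haveI : Subsingleton (H.F.obj Z) := hii Z fun z => by
    show dimPt ((cj R2 ≫ ν ≫ f1 ≫ p) ≫ t) z ≤ d - 2
    rw [Category.assoc, dimPt_cj ((ν ≫ f1 ≫ p) ≫ t) R2 z]
    set x := cj R2 z
    haveI : IsDomain ((Curv2.normalization Y1).presheaf.stalk x) := (hNn x).1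
    haveI : IsIntegrallyClosed ((Curv2.normalization Y1).presheaf.stalk x) := (hNn x).2
    have h2le : ((2 : ℕ) : WithBot ℕ∞) ≤ ringKrullDim ((Curv2.normalization Y1).presheaf.stalk x) := by
      obtain ⟨m, hm⟩ := Dim.exists_dim_eq ((Curv2.normalization Y1).presheaf.stalk x)
      rw [hm]
      by_contra hlt
      have hm1 : m ≤ 1 := by
        rw [Nat.cast_le] at hlt
        omega
      refine cj_not_mem R2 z (CurveCompl53.Basic.isRegularLocalRing_of_dim_le_one _ ?_)
      rw [hm]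
      exact_mod_cast hm1
    have h1 := Dim.dimPt_add_le ((ν ≫ f1 ≫ p) ≫ t) x 2 h2le
    have h2 := hd2 (genericPoint (Curv2.normalization Y1))
    omega
  -- the regular part is quasi-projective over `S` with regular local rings
  have hkill : (φ.app U).hom (one U) = 0 := by
    refine hv U (fun x => ?_) ?_
    · haveI : IsRegularLocalRing ((Curv2.normalization Y1).presheaf.stalk (R2.ι x)) := x.2
      exact IsRegularLocalRing.of_ringEquiv (asIso (R2.ι.stalkMap x)).commRingCatIsoToRingEquiv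
    · obtain ⟨-, -, L, hL⟩ := hq1
      have hL2 := Ample.RelAmple.isRelAmple_pullback (f1 ≫ p ≫ t) ν
        (Ample.Pullback.isQuasiAffine_of_isAffineHom ν) hL
      have hL3 := Ample.RelAmple.isRelAmple_pullback (ν ≫ f1 ≫ p ≫ t) R2.ι
        (Ample.RelAmple.isQuasiAffine_of_isImmersion R2.ι) hL2
      obtain ⟨P, j, q, hj, hq, hjq⟩ := S9706.result (R2.ι ≫ ν ≫ f1 ≫ p ≫ t)
        ⟨inferInstance, inferInstance, _, hL3⟩
      exact ⟨P, j, q, hj, hq, hjq.trans (show _ = (R2.ι ≫ ν ≫ f1 ≫ p) ≫ t by simp only [Category.assoc])⟩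
  have hres : (H.res (U := U) (X := obj (ν ≫ f1 ≫ p)) R2.ι hRo rfl).hom
      ((φ.app _).hom (one _)) = 0 := by
    have h := ConcreteCategory.congr_hom (hiv (U := U) (X := obj (ν ≫ f1 ≫ p)) R2.ι hRo rfl) (one _)
    change (φ.app U).hom ((G.res (U := U) (X := obj (ν ≫ f1 ≫ p)) R2.ι _ _).hom (one _)) = _ at h
    rw [hG4a (U := U) (X := obj (ν ≫ f1 ≫ p)) R2.ι hRo rfl
      (Or.inl (show IsIntegral (Curv2.normalization Y1) from hNi)), hkill] at h
    exact h.symm
  obtain ⟨b, hb⟩ := hH2 (Z := Z) (X := obj (ν ≫ f1 ≫ p)) (U := U) i R2.ι hRo rfl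
    (show IsClosedImmersion (cj R2) from inferInstance) (range_cj R2) hres
  rw [← hb, Subsingleton.elim b 0, map_zero]

include hG2 hH2 hG3 hG4a hG4b hG5 hii hiv hv in
/-- The inductive step. -/
theorem step (hqe : ∀ U : S.affineOpens, EGA4.IsQuasiExcellent Γ(S, U)) [S.IsSeparated] [T.IsSeparated]
    (n : ℤ) (hn : n ≤ d) (hk : Kills t one φ (n - 1)) : Kills t one φ n := by
  intro Y hY hd
  let p : Y.left ⟶ T := Y.hom
  haveI : LocallyOfFiniteType p := Y.prop.1
  haveI : QuasiCompact p := Y.prop.2.1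
  haveI : IsSeparated p := Y.prop.2.2
  exact step_aux t one φ hG2 hH2 hG3 hG4a hG4b hG5 d hii hiv hv hqe n hn hk p hd

end Groth.Agent.Lib.DetectReg.Main
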